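import Groth.Agent.Ega3B.AcyclicBC

/-!
# Base change and vanishing of top cohomology

`X` quasi-compact and separated over the affine scheme `S`, `F` quasi-coherent and flat over `S` with
`H^p(X, F) = 0` for all `p > k`.  Then `H^p(X_T, F_T) = 0` for all `p > k`, for every cartesian square over
`T ⟶ S` with `T` affine (no flatness of `T ⟶ S`, no finiteness).
-/

set_option autoImplicit false
universe u
open CategoryTheory CategoryTheory.Limits AlgebraicGeometry Opposite TopologicalSpace TensorProduct

namespace Groth.Agent.Krr.H469.VanShift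

open Groth.Agent.Ega3B Groth.Agent.Ega3B.AcyclicBC
open CubeData CombRes Cube CechBC CechH0 AcyclicAlg VarietyB.FlatH0 VarietyB.BCAlg
open Groth.Agent.Fdesc

variable {ι : Type} [LinearOrder ι] [Fintype ι]

attribute [local instance 3000] LocExact.hasSheafify

variable {X Y S T : Scheme.{u}} {f : T ⟶ S} {g : Y ⟶ X} {iX : X ⟶ S} {iY : Y ⟶ T}

/-- Isomorphic modules: vanishing of cohomology. -/
theorem subsingleton_HH_of_iso {X : Scheme.{u}} {M N : X.Modules} (e : M ≅ N) (p : ℕ)
    (h : Subsingleton (Coh.HH X M p)) : Subsingleton (Coh.HH X N p) := by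
  let e' := (Sheaf.functorH (Opens.grothendieckTopology X) p).mapIso
    ((SheafOfModules.toSheaf X.ringCatSheaf).mapIso e)
  have h' : Subsingleton ((Sheaf.functorH (Opens.grothendieckTopology X) p).obj (Coh.toAb M)) := h
  exact (e'.addCommGroupIsoToAddEquiv.symm).injective.subsingleton

theorem of_cover (H : IsPullback g iY iX f) [IsAffine S] [IsAffine T] (F : X.Modules)
    (hF : Coh.IsQCoh F) (hfl : FlatMod.IsFlatOver iX F) (U : ι → X.Opens) (hcov : ⨆ i, U i = ⊤)
    (hU : ∀ s : Finset ι, s.Nonempty → IsAffineOpen (s.inf U)) (k : ℕ)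
    (hvan : ∀ p, Subsingleton (Coh.HH X F (k + p + 1))) (p : ℕ) :
    Subsingleton (Coh.HH Y ((Scheme.Modules.pullback g).obj F) (k + p + 1)) := by
  have hF' : Coh.IsQCoh ((Scheme.Modules.pullback g).obj F) := VarietyB.PullSec.isQCoh_pullback g F hF
  let i0 := algOver f (US := ⊤) (UT := ⊤) le_top
  let i1 := fun n => modC iX F U n
  let i2 := fun n => modC iY ((Scheme.Modules.pullback g).obj F) (pre g U) n
  let i1' := fun n => modC iX F U (k + n)
  let i2' := fun n => modC iY ((Scheme.Modules.pullback g).obj F) (pre g U) (k + n)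
  have hex : ∀ n, Function.Exact (d iX F U (k + n)) (d iX F U (k + (n + 1))) := by
    intro n x
    constructor
    · intro hx
      exact exists_of_vanish F U hF hcov hU (k + n) (hvan n) x hx
    · rintro ⟨y, rfl⟩
      exact (cech (X := X.toPresheafedSpace.carrier) U).δ_δ (k + n) y
  have hex' := exact_of_bc (C := fun n => C F U (k + n))
    (C' := fun n => C ((Scheme.Modules.pullback g).obj F) (pre g U) (k + n))
    (d := fun n => d iX F U (k + n))
    (d' := fun n => d iY ((Scheme.Modules.pullback g).obj F) (pre g U) (k + n)) hex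
    (fun n => sC U H.w F (k + n)) (fun n x => d_sC U H.w F (k + n) x)
    (fun n => bijective_bc_sC U H F hF hU (k + n)) (fun n => flat_C U F hF hfl hU (k + n))
    (Fintype.card ι) (fun n hn => subsingleton_C F U (k + n) (by omega))
  refine subsingleton_of_exact _ (pre g U) hF' (pre_cover g U hcov) (pre_affine H U hU) (k + p)
    fun x hx => ?_
  exact (hex' p x).mp hx

/-- Base change and vanishing of top cohomology. -/
theorem vanish_bc (H : IsPullback g iY iX f) [IsAffine S] [IsAffine T] [QuasiCompact iX]
    [IsSeparated iX] (F : X.Modules) (hF : Coh.IsQCoh F) (hfl : FlatMod.IsFlatOver iX F) (k : ℕ)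
    (hvan : ∀ p, k < p → Subsingleton (Coh.HH X F p)) (p : ℕ) (hp : k < p) :
    Subsingleton (Coh.HH Y ((Scheme.Modules.pullback g).obj F) p) := by
  have h1 : CompactSpace X := QuasiCompact.compactSpace_of_compactSpace iX
  have h2 : X.IsSeparated := by
    have : IsSeparated (terminal.from X) := by
      have : terminal.from X = iX ≫ terminal.from S := terminal.hom_ext _ _
      rw [this]
      infer_instance
    exact ⟨this⟩
  obtain ⟨n, U, hcov, hU⟩ := exists_cover X
  obtain ⟨q, rfl⟩ : ∃ q, p = k + q + 1 := ⟨p - k - 1, by omega⟩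
  exact of_cover H F hF hfl U hcov hU k (fun q => hvan _ (by omega)) q

end Groth.Agent.Krr.H469.VanShift
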