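import Groth.Agent.Ega3B.AcyclicBC
import Groth.Agent.PerfB.BCModIso
import Groth.Agent.PerfA.Restrict
import Groth.Agent.PerfA.QCohSerre
import Groth.Agent.PerfB.BCMV
import Groth.Agent.Krr.H469.VanShift
import Groth.Agent.S1391
import Mathlib.CategoryTheory.Adjunction.Mates

/-!
# The canonical base change morphism for acyclic flat quasi-coherent modules

`f : X ⟶ S` quasi-compact and separated, `M` quasi-coherent and flat over `S`, with
`H^p(f⁻¹ W, M) = 0` for all affine opens `W` of `S` and all `p ≥ 1`.  Then for every cartesian square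
over any `g : S' ⟶ S`, the canonical morphism `g^* f_* M ⟶ f'_* g'^* M` is an isomorphism
(`bc_acyclic` in the formalism of `PerfB.BCTot`).
-/

set_option autoImplicit false

universe u

open CategoryTheory CategoryTheory.Limits AlgebraicGeometry Opposite TopologicalSpace

namespace Groth.Agent.Krr.H469.BCAcyc

open Groth.Agent.PerfB.BCTot Groth.Agent.PerfB.BCTot.Tot Groth.Agent.PerfB.BCMod
open Groth.Agent.VarietyB

variable {X S X' S' : Scheme.{u}} {f : X ⟶ S} {g : S' ⟶ S} {g' : X' ⟶ X} {f' : X' ⟶ S'}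

/-- Comparison of the two ways to say that `sec` is a base change. -/
theorem isBC_of_isBC (w : g' ≫ f = f' ≫ g) (M : X.Modules)
    {US : S.Opens} {UT : S'.Opens} (hUST : UT ≤ g ⁻¹ᵁ US) {UX : X.Opens} (hUSX : UX ≤ f ⁻¹ᵁ US)
    {UY : X'.Opens} (e : UY ≤ g' ⁻¹ᵁ UX) (e' : UY ≤ f' ⁻¹ᵁ UT)
    (h : FlatH0.IsBC w M hUST hUSX e e') :
    @IsBC Γ(S, US) Γ(S', UT) _ _ (g.appLE US UT hUST).hom Γ(M, UX) Γ((Scheme.Modules.pullback g').obj M, UY)
      _ (FlatH0.modOver f M hUSX) _ (FlatH0.modOver f' ((Scheme.Modules.pullback g').obj M) e')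
      (PullSec.sec g' M e) := by
  letI := FlatH0.algOver g hUST
  letI := FlatH0.modOver f M hUSX
  letI := FlatH0.modOver f' ((Scheme.Modules.pullback g').obj M) e'
  refine ⟨(FlatH0.secS w M hUST hUSX e e').map_smul', ?_⟩
  letI : Module Γ(S, US) Γ((Scheme.Modules.pullback g').obj M, UY) :=
    Module.compHom _ (g.appLE US UT hUST).hom
  haveI : IsScalarTower Γ(S, US) Γ(S', UT) Γ((Scheme.Modules.pullback g').obj M, UY) :=
    ⟨fun a b c => by rw [Algebra.smul_def, mul_smul]; rfl⟩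
  exact (BCAlg.isBaseChange_iff _ (FlatH0.secS w M hUST hUSX e e') (fun _ => rfl)).2 h

theorem isBC_top (w : g' ≫ f = f' ≫ g) (M : X.Modules)
    (h : FlatH0.IsBC w M (US := ⊤) (UT := ⊤) le_top (UX := ⊤) le_top (UY := ⊤) le_top le_top) :
    @IsBC Γ(S, ⊤) Γ(S', ⊤) _ _ g.appTop.hom Γ(M, ⊤) Γ((Scheme.Modules.pullback g').obj M, ⊤)
      _ (Module.compHom _ f.appTop.hom) _ (Module.compHom _ f'.appTop.hom)
      (((Scheme.Modules.pullbackPushforwardAdjunction g').unit.app M).app ⊤).hom := by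
  have h1 := isBC_of_isBC w M (US := ⊤) (UT := ⊤) le_top (UX := ⊤) le_top (UY := ⊤) le_top le_top h
  have a1 : (g.appLE ⊤ ⊤ le_top).hom = g.appTop.hom := congrArg _ (CurvesA.FlatH0.appLE_top_top g)
  have a2 : (f.appLE ⊤ ⊤ le_top).hom = f.appTop.hom := congrArg _ (CurvesA.FlatH0.appLE_top_top f)
  have a3 : (f'.appLE ⊤ ⊤ le_top).hom = f'.appTop.hom := congrArg _ (CurvesA.FlatH0.appLE_top_top f')
  have a4 : PullSec.sec g' M (U := ⊤) (V := ⊤) le_top =
      (((Scheme.Modules.pullbackPushforwardAdjunction g').unit.app M).app ⊤).hom := by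
    ext x
    rw [PullSec.sec_apply]
    exact map_self _ (V := ⊤) (homOfLE (le_refl _)) _
  unfold FlatH0.modOver at h1
  rw [a1, a2, a3] at h1
  rw [a4] at h1
  exact h1

/-- The case of affine `S`, `S'`. -/
theorem bc_affineBase (h : IsPullback g' f' f g) [IsAffine S] [IsAffine S'] [QuasiCompact f]
    [IsSeparated f] (M : X.Modules) (hM : Coh.IsQCoh M) (hfl : FlatMod.IsFlatOver f M)
    (hvan : ∀ p, Subsingleton (Coh.HH X M (p + 1))) :
    Tot.BC (Tot.cartLift (P := modPull) ⟨X, M⟩ g') f f' g := by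
  obtain ⟨⟨s, φ⟩, hs, hs'⟩ := (isCocart_cocartLift (P := modPull) f'
      (Scheme.Modules.pullbackPushforwardAdjunction f') ((Scheme.Modules.pullback g').obj M)).desc
    (cartLift (P := modPull) ⟨X, M⟩ g' ≫
        cocartLift (P := modPull) f (Scheme.Modules.pullbackPushforwardAdjunction f) M) g h.w.symm
  obtain rfl : s = g := hs
  refine BC.of_exists _ _ _ _ rfl rfl rfl (isCocart_cocartLift (P := modPull) f
      (Scheme.Modules.pullbackPushforwardAdjunction f) M) (isCocart_cocartLift (P := modPull) f'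
      (Scheme.Modules.pullbackPushforwardAdjunction f') ((Scheme.Modules.pullback g').obj M)) hs' ?_
  have i1 : QuasiCompact f' := MorphismProperty.of_isPullback h inferInstance
  have i2 : IsSeparated f' := MorphismProperty.of_isPullback h inferInstance
  have q1 : Coh.IsQCoh ((Scheme.Modules.pushforward f).obj M) := Ega1.QcqsPush.isQCoh_pushforward f M hM
  have q2 : Coh.IsQCoh ((Scheme.Modules.pullback s).obj ((Scheme.Modules.pushforward f).obj M)) :=
    VarietyB.PullSec.isQCoh_pullback _ _ q1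
  have q3 : Coh.IsQCoh ((Scheme.Modules.pullback g').obj M) := VarietyB.PullSec.isQCoh_pullback _ _ hM
  have q4 : Coh.IsQCoh ((Scheme.Modules.pushforward f').obj ((Scheme.Modules.pullback g').obj M)) :=
    Ega1.QcqsPush.isQCoh_pushforward f' _ q3
  have key := app_unit_eq h.w M φ hs' ⊤
  refine @Groth.Agent.CohqA.PullbackQCoh.isIso_of_bijective_top S' _ _ _ q2 q4 φ ?_
  have b1 := isBC_sec_top s ((Scheme.Modules.pushforward f).obj M) q1
  have b3 := isBC_top h.w M (Ega3B.AcyclicBC.acyclicBC h M hM hfl hvan).2.1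
  refine @IsBC.bijective Γ(S, ⊤) Γ(S', ⊤) _ _ s.appTop.hom Γ(M, ⊤) _
      Γ((Scheme.Modules.pullback g').obj M, ⊤) _ (Module.compHom _ f.appTop.hom) _ _ _
      (Module.compHom _ f'.appTop.hom) _ _ b1 b3 (φ.app ⊤).hom ?_ ?_
  · intro a n
    exact Scheme.Modules.Hom.app_smul φ a n
  · intro x
    refine (key x).trans ?_
    exact map_self _ (V := ⊤) (𝟙 _) _

section Local

open Groth.Agent.PerfB.BCMV

/-- Base change only depends on the cartesian arrow up to isomorphism. -/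
lemma BC_of_cart {𝒮 : Type*} [Category 𝒮] {D : 𝒮 → Type*} [∀ X, Category (D X)] {P : PullData D}
    {X V S U : 𝒮} {K K₁ : D X} (i : K₁ ≅ K) {L L₁ : D V}
    (a : (⟨V, L⟩ : Tot P) ⟶ ⟨X, K⟩) (a₁ : (⟨V, L₁⟩ : Tot P) ⟶ ⟨X, K₁⟩) (ha : IsCart a)
    (ha₁ : IsCart a₁) (e : a.base = a₁.base) {f : X ⟶ S} {f₀ : V ⟶ U} {g : U ⟶ S}
    (h : BC a f f₀ g) : BC a₁ f f₀ g := by
  have c1 : IsCart (a ≫ ver i.hom) := ha.comp ((isCart_ver_iff _).2 inferInstance)
  obtain ⟨i', hi'⟩ := c1.exists_iso ha₁ (by simp [e])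
  refine BC.congr_fib i.symm i' ?_ h
  rw [← hi', Iso.symm_hom, Category.assoc, Category.assoc, ver_comp_ver, Iso.inv_hom_id, ver_id]
  simp

/-- Base change for modules is local on the base. -/
theorem bc_of_local (sq : IsPullback g' f' f g) (M : X.Modules)
    (H : ∀ (W : S.Opens) (W' : S'.Opens) (hle : W' ≤ g ⁻¹ᵁ W), IsAffineOpen W → IsAffineOpen W' →
      ∀ gV : (f' ⁻¹ᵁ W' : Scheme) ⟶ (f ⁻¹ᵁ W : Scheme), IsPullback gV (f' ∣_ W') (f ∣_ W) (g.resLE W W' hle) →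
        BC (cartLift (P := modPull.{u}) ⟨_, (Scheme.Modules.pullback (f ⁻¹ᵁ W).ι).obj M⟩ gV)
          (f ∣_ W) (f' ∣_ W') (g.resLE W W' hle)) :
    BC (cartLift (P := modPull.{u}) ⟨X, M⟩ g') f f' g := by
  have hP : ∀ {X Y : Scheme.{u}} (f : X ⟶ Y), (modPull.{u}.pull f).IsLeftAdjoint :=
    fun f => (Scheme.Modules.pullbackPushforwardAdjunction f).isLeftAdjoint
  intro L L' m m' s hf hf' hg hm hm' hs
  refine Groth.Agent.PerfA.Restrict.isIso_of_restrict _ fun x' => ?_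
  obtain ⟨W, hW, hxW, -⟩ := exists_isAffineOpen_mem_and_subset (x := g x') (U := ⊤) trivial
  obtain ⟨W', hW', hxW', hle⟩ := exists_isAffineOpen_mem_and_subset (x := x') (U := g ⁻¹ᵁ W) hxW
  refine ⟨W', W'.ι, inferInstance, ⟨x', hxW'⟩, rfl, ?_⟩
  refine (NatIso.isIso_map_iff (Scheme.Modules.restrictFunctorIsoPullback W'.ι) _).2 ?_
  have hV : IsPullback (f ⁻¹ᵁ W).ι (f ∣_ W) f W.ι := (isPullback_morphismRestrict f W).flip
  have hV' : IsPullback (f' ⁻¹ᵁ W').ι (f' ∣_ W') f' W'.ι := (isPullback_morphismRestrict f' W').flip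
  let g₀ : (W' : Scheme) ⟶ W := g.resLE W W' hle
  have hg₀ : g₀ ≫ W.ι = W'.ι ≫ g := Scheme.Hom.resLE_comp_ι _ _
  let gV : (f' ⁻¹ᵁ W' : Scheme) ⟶ (f ⁻¹ᵁ W : Scheme) :=
    hV.lift ((f' ⁻¹ᵁ W').ι ≫ g') ((f' ∣_ W') ≫ g₀) (by
      rw [Category.assoc, Category.assoc, hg₀, sq.w, morphismRestrict_ι_assoc])
  have hgV : gV ≫ (f ⁻¹ᵁ W).ι = (f' ⁻¹ᵁ W').ι ≫ g' := hV.lift_fst _ _ _
  have hgV' : gV ≫ (f ∣_ W) = (f' ∣_ W') ≫ g₀ := hV.lift_snd _ _ _
  have sq₀ : IsPullback gV (f' ∣_ W') (f ∣_ W) g₀ := by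
    refine IsPullback.of_right ?_ hgV' hV
    rw [hgV, hg₀]
    exact hV'.paste_horiz sq
  obtain ⟨θ₀, hθ₀, eθ₀⟩ := exists_res (cartLift (P := modPull.{u}) ⟨X, M⟩ g')
      (a := cartLift (P := modPull.{u}) ⟨X, M⟩ (f ⁻¹ᵁ W).ι)
      (cartLift (P := modPull.{u}) ⟨X', (Scheme.Modules.pullback g').obj M⟩ (f' ⁻¹ᵁ W').ι)
      (isCart_cartLift _ _) gV hgV
  refine isIso_pull_of_BC hm hm' hs hP (i := W.ι) (i' := W'.ι) (g₀ := g₀) (by rw [hg]; exact hg₀)
    (a := cartLift (P := modPull.{u}) ⟨X, M⟩ (f ⁻¹ᵁ W).ι)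
    (a' := cartLift (P := modPull.{u}) ⟨X', (Scheme.Modules.pullback g').obj M⟩ (f' ⁻¹ᵁ W').ι) eθ₀
    (f₀ := f ∣_ W) (f₀' := f' ∣_ W')
    ?_ ?_ ?_ ((bc_open hV M).congr_base hf.symm rfl rfl)
    ((bc_open hV' _).congr_base hf'.symm rfl rfl) ?_
  · rw [hf]; exact morphismRestrict_ι _ _
  · rw [hf']; exact morphismRestrict_ι _ _
  · rw [hθ₀]; exact hgV'.symm
  have c1 : IsCart (θ₀ ≫ cartLift (P := modPull.{u}) ⟨X, M⟩ (f ⁻¹ᵁ W).ι) := by
    rw [eθ₀]
    exact (isCart_cartLift _ _).comp (isCart_cartLift _ _)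
  have c2 : IsCart θ₀ := (isCart_comp_iff (isCart_cartLift _ _)).1 c1
  exact BC_of_cart (Iso.refl _)
    (cartLift (P := modPull.{u}) ⟨_, (Scheme.Modules.pullback (f ⁻¹ᵁ W).ι).obj M⟩ gV) θ₀
    (isCart_cartLift _ _) c2 hθ₀.symm (H W W' hle hW hW' gV sq₀)

/-- **Base change for acyclic flat quasi-coherent modules** (canonical morphism). -/
theorem bc_acyclic (sq : IsPullback g' f' f g) [QuasiCompact f] [IsSeparated f] (M : X.Modules)
    (hM : Coh.IsQCoh M) (hfl : FlatMod.IsFlatOver f M)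
    (hvan : ∀ W : S.Opens, IsAffineOpen W → ∀ p : ℕ, 1 ≤ p →
      Subsingleton (Coh.HH (f ⁻¹ᵁ W).toScheme (M.restrict (f ⁻¹ᵁ W).ι) p)) :
    BC (cartLift (P := modPull.{u}) ⟨X, M⟩ g') f f' g := by
  refine bc_of_local sq M fun W W' hle hW hW' gV sq₀ => ?_
  have a1 : IsAffine W := hW
  have a2 : IsAffine W' := hW'
  have hV : IsPullback (f ⁻¹ᵁ W).ι (f ∣_ W) f W.ι := (isPullback_morphismRestrict f W).flip
  have i1 : QuasiCompact (f ∣_ W) := MorphismProperty.of_isPullback hV inferInstance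
  have i2 : IsSeparated (f ∣_ W) := MorphismProperty.of_isPullback hV inferInstance
  refine bc_affineBase sq₀ _ (VarietyB.PullSec.isQCoh_pullback _ _ hM)
    (fun x => S1391.result f (f ∣_ W) (f ⁻¹ᵁ W).ι W.ι hV M hM x (hfl _)) fun p => ?_
  exact VanShift.subsingleton_HH_of_iso
    ((Scheme.Modules.restrictFunctorIsoPullback (f ⁻¹ᵁ W).ι).app M) (p + 1) (hvan W hW (p + 1) (by omega))

end Local


end Groth.Agent.Krr.H469.BCAcyc
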