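import Groth.Agent.PerfB.BCModIso

/-!
# From formal base change to the canonical base change morphism of modules

`isIso_of_bc`: the morphism `g^* f_* M ⟶ f'_* g'^* M` with transpose
`f'^* g^* f_* M ≅ g'^* f^* f_* M ⟶ g'^* M` is an isomorphism as soon as formal base change (`PerfB.BCTot`) holds.
-/

set_option autoImplicit false

universe u

open CategoryTheory CategoryTheory.Limits AlgebraicGeometry Opposite TopologicalSpace

namespace Groth.Agent.Krr.H469.BCCan

open Groth.Agent.PerfB.BCTot Groth.Agent.PerfB.BCTot.Tot Groth.Agent.PerfB.BCMod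

variable {X S X' S' : Scheme.{u}} {f : X ⟶ S} {g : S' ⟶ S} {g' : X' ⟶ X} {f' : X' ⟶ S'}

/-- From formal base change to the canonical morphism, characterised by its transpose. -/
theorem isIso_of_bc (w : g' ≫ f = f' ≫ g) (M : X.Modules)
    (h : BC (cartLift (P := modPull.{u}) ⟨X, M⟩ g') f f' g)
    (b : (Scheme.Modules.pullback g).obj ((Scheme.Modules.pushforward f).obj M) ⟶
      (Scheme.Modules.pushforward f').obj ((Scheme.Modules.pullback g').obj M))
    (hb : ((Scheme.Modules.pullbackPushforwardAdjunction f').homEquiv _ _).symm b =
      (Scheme.Modules.pullbackComp f' g).hom.app _ ≫ (Scheme.Modules.pullbackCongr w.symm).hom.app _ ≫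
        (Scheme.Modules.pullbackComp g' f).inv.app _ ≫ (Scheme.Modules.pullback g').map
          ((Scheme.Modules.pullbackPushforwardAdjunction f).counit.app M)) : IsIso b := by
  have hb' : (Scheme.Modules.pullback f').map b ≫
      (Scheme.Modules.pullbackPushforwardAdjunction f').counit.app ((Scheme.Modules.pullback g').obj M) =
      (Scheme.Modules.pullbackComp f' g).hom.app ((Scheme.Modules.pushforward f).obj M) ≫
      (Scheme.Modules.pullbackCongr w.symm).hom.app ((Scheme.Modules.pushforward f).obj M) ≫
        (Scheme.Modules.pullbackComp g' f).inv.app ((Scheme.Modules.pushforward f).obj M) ≫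
        (Scheme.Modules.pullback g').map
          ((Scheme.Modules.pullbackPushforwardAdjunction f).counit.app M) := by
    rw [Adjunction.homEquiv_counit] at hb
    exact hb
  have hb2 : (Scheme.Modules.pullbackComp f' g).inv.app ((Scheme.Modules.pushforward f).obj M) ≫
      (Scheme.Modules.pullback f').map b ≫
      (Scheme.Modules.pullbackPushforwardAdjunction f').counit.app ((Scheme.Modules.pullback g').obj M) =
      (Scheme.Modules.pullbackCongr w.symm).hom.app ((Scheme.Modules.pushforward f).obj M) ≫
        (Scheme.Modules.pullbackComp g' f).inv.app ((Scheme.Modules.pushforward f).obj M) ≫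
        (Scheme.Modules.pullback g').map
          ((Scheme.Modules.pullbackPushforwardAdjunction f).counit.app M) := by
    rw [hb', Iso.inv_hom_id_app_assoc]
  refine h _ _ (cocartLift (P := modPull.{u}) f (Scheme.Modules.pullbackPushforwardAdjunction f) M)
    (cocartLift (P := modPull.{u}) f' (Scheme.Modules.pullbackPushforwardAdjunction f')
      ((Scheme.Modules.pullback g').obj M)) ⟨g, b⟩ rfl rfl rfl
    (isCocart_cocartLift _ _ _) (isCocart_cocartLift _ _ _) ?_
  refine hom_ext w.symm ?_
  rw [comp_fib, comp_fib]
  refine hb2.trans ?_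
  have e1 : (Scheme.Modules.pullbackCongr w.symm).hom.app ((Scheme.Modules.pushforward f).obj M) =
      eqToHom (by rw [w]) := by
    simp [Scheme.Modules.pullbackCongr, eqToHom_app]
  rw [e1]
  refine congrArg (fun t => _ ≫ (Scheme.Modules.pullbackComp g' f).inv.app
    ((Scheme.Modules.pushforward f).obj M) ≫ t) ?_
  exact (Category.comp_id _).symm

end Groth.Agent.Krr.H469.BCCan
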