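import Groth.Prelude.Def_KRR
import Groth.Agent.Dcoh.MonPull292

/-!
# Pull-back of twists along `P^n_{Y₁} ⟶ P^n_Y`

* `isPullback_projSpaceMap` : the square of `KRR.projSpaceMap n φ` is cartesian.
* `pullTens` : `f^*(M ⊗ N) ≅ f^* M ⊗ f^* N` for `DCoh.tensorBi`.
* `pullTwist` : `ψ^* O(d) ≅ O(d)`; `pullTwF` : `ψ^*(F(d)) ≅ (ψ^* F)(d)`.
-/

set_option autoImplicit false

universe u

open CategoryTheory CategoryTheory.Limits AlgebraicGeometry MonoidalCategory

namespace Groth.Agent.Krr.H469.TwPull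

section Tens

open Groth.Agent.Dcoh.MonCat

/-- `f^*(M ⊗ N) ≅ f^* M ⊗ f^* N`. -/
noncomputable def pullTens {X Y : Scheme.{u}} (f : X ⟶ Y) (M N : Y.Modules) :
    (Scheme.Modules.pullback f).obj (((DCoh.tensorBi (X := Y)).obj M).obj N) ≅
      ((DCoh.tensorBi (X := X)).obj ((Scheme.Modules.pullback f).obj M)).obj
        ((Scheme.Modules.pullback f).obj N) :=
  letI := Dcoh.MonPull.monPull f
  (Functor.Monoidal.μIso (Scheme.Modules.pullback f) M N).symm

end Tens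

section Geo

variable (n : ℕ) {Y₁ Y : Scheme.{u}} (φ : Y₁ ⟶ Y)

theorem projSpaceMap_fst : KRR.projSpaceMap n φ ≫
    pullback.fst (CohB1.ProjSpace.toSpec n (ULift.{u} ℤ)) (specULiftZIsTerminal.from Y) =
      pullback.fst (CohB1.ProjSpace.toSpec n (ULift.{u} ℤ)) (specULiftZIsTerminal.from Y₁) := by
  unfold KRR.projSpaceMap
  exact (pullback.lift_fst _ _ _).trans (Category.comp_id _)

theorem projSpaceMap_pr : KRR.projSpaceMap n φ ≫ KRR.pr n Y = KRR.pr n Y₁ ≫ φ := by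
  unfold KRR.projSpaceMap
  exact pullback.lift_snd _ _ _

theorem isPullback_projSpaceMap :
    IsPullback (KRR.projSpaceMap n φ) (KRR.pr n Y₁) (KRR.pr n Y) φ := by
  have h1 : IsPullback (pullback.fst (CohB1.ProjSpace.toSpec n (ULift.{u} ℤ)) (specULiftZIsTerminal.from Y))
      (KRR.pr n Y) (CohB1.ProjSpace.toSpec n (ULift.{u} ℤ)) (specULiftZIsTerminal.from Y) :=
    IsPullback.of_hasPullback _ _
  refine IsPullback.of_right ?_ (projSpaceMap_pr n φ) h1
  rw [projSpaceMap_fst]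
  have e : φ ≫ specULiftZIsTerminal.from Y = specULiftZIsTerminal.from Y₁ := specULiftZIsTerminal.hom_ext _ _
  rw [e]
  exact IsPullback.of_hasPullback _ _

/-- `ψ^* O(d) ≅ O(d)`. -/
noncomputable def pullTwist (d : ℤ) :
    (Scheme.Modules.pullback (KRR.projSpaceMap n φ)).obj (Twist.twistOver n Y d) ≅ Twist.twistOver n Y₁ d :=
  (Scheme.Modules.pullbackComp (KRR.projSpaceMap n φ) (pullback.fst _ _)).app _ ≪≫
    (Scheme.Modules.pullbackCongr (projSpaceMap_fst n φ)).app _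

/-- `ψ^*(F(d)) ≅ (ψ^* F)(d)`. -/
noncomputable def pullTwF (d : ℤ) (F : (KRR.PY n Y).Modules) :
    (Scheme.Modules.pullback (KRR.projSpaceMap n φ)).obj (KRR.twF n Y d F) ≅
      KRR.twF n Y₁ d ((Scheme.Modules.pullback (KRR.projSpaceMap n φ)).obj F) :=
  pullTens (KRR.projSpaceMap n φ) (Twist.twistOver n Y d) F ≪≫
    ((DCoh.tensorBi (X := KRR.PY n Y₁)).mapIso (pullTwist n φ d)).app _

end Geo

end Groth.Agent.Krr.H469.TwPull
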