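import Groth.Agent.Krr.H469.VanShift
import Groth.Agent.CohqB.RelVan
import Groth.Agent.S1391

/-!
# Vanishing of higher direct images and base change

* `subsingleton_HH_of_isZero` : `R^p f_* M = 0` implies `H^p(f⁻¹ W, M) = 0` for `W` affine (`f` qcqs, `M`
  quasi-coherent).
* `isZero_RpushAb_bc` : `f` quasi-compact and separated, `M` quasi-coherent and flat over `S`, `R^p f_* M = 0` for
  all `p > k`.  Then `R^p f'_* (g'^* M) = 0` for all `p > k`, for every cartesian square over any `g : S' ⟶ S`.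
-/

set_option autoImplicit false

universe u

open CategoryTheory CategoryTheory.Limits AlgebraicGeometry Opposite TopologicalSpace

namespace Groth.Agent.Krr.H469.VanBC

open Groth.Agent.CohqB.RelVan

variable {X S : Scheme.{u}}

/-- `R^p f_* M = 0` implies `H^p(f⁻¹ W, M) = 0` for `W` affine. -/
theorem subsingleton_HH_of_isZero (f : X ⟶ S) [QuasiCompact f] [QuasiSeparated f]
    (M : X.Modules) (hM : Coh.IsQCoh M) (p : ℕ) (h : IsZero ((Coh.RpushAb f p).obj (Coh.toAb M)))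
    (W : S.Opens) (hW : IsAffineOpen W) :
    Subsingleton (Coh.HH (f ⁻¹ᵁ W).toScheme (M.restrict (f ⁻¹ᵁ W).ι) p) := by
  have : IsAffine W := hW
  have h1 : IsZero ((Coh.Rpush f p).obj M) := (Ega3B.RpushAbCmp.isZero_RpushAb_iff f M p).1 h
  have h2 : IsZero (((Coh.Rpush f p).obj M).restrict W.ι) :=
    (Functor.map_isZero (Scheme.Modules.restrictFunctor W.ι) h1)
  have h3 : IsZero ((Coh.Rpush (f ∣_ W) p).obj (M.restrict (f ⁻¹ᵁ W).ι)) :=
    h2.of_iso (CohqA.RpushLoc.rpushResOpen f W p M).symm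
  have h4 := (Ega3B.RpushAbCmp.isZero_RpushAb_iff (f ∣_ W) (M.restrict (f ⁻¹ᵁ W).ι) p).2 h3
  have hq : Coh.IsQCoh (M.restrict (f ⁻¹ᵁ W).ι) := PerfA.QCohSerre.isQCoh_restrict _ hM
  obtain ⟨e⟩ := S0032.result (f ∣_ W) (M.restrict (f ⁻¹ᵁ W).ι) p
  have h5 : IsZero (((Coh.RpushAb (f ∣_ W) p).obj (Coh.toAb (M.restrict (f ⁻¹ᵁ W).ι))).obj.obj (op ⊤)) :=
    Functor.map_isZero (sheafToPresheaf _ _ ⋙ (evaluation _ _).obj (op ⊤)) h4
  have h6 := AddCommGrpCat.subsingleton_of_isZero h5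
  exact e.toEquiv.subsingleton

/-- Vanishing of higher direct images from cohomology over affine opens. -/
theorem isZero_iff (f : X ⟶ S) [QuasiCompact f] [QuasiSeparated f]
    (M : X.Modules) (hM : Coh.IsQCoh M) (p : ℕ) :
    IsZero ((Coh.RpushAb f p).obj (Coh.toAb M)) ↔ ∀ W : S.Opens, IsAffineOpen W →
      Subsingleton (Coh.HH (f ⁻¹ᵁ W).toScheme (M.restrict (f ⁻¹ᵁ W).ι) p) := by
  refine ⟨fun h W hW => subsingleton_HH_of_isZero f M hM p h W hW, fun h => ?_⟩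
  refine isZero_RpushAb_of_cover f M hM p fun x => ?_
  obtain ⟨W, hW, hxW, -⟩ := exists_isAffineOpen_mem_and_subset (x := x) (U := ⊤) trivial
  exact ⟨W, hxW, hW, h W hW⟩

variable {X' S' : Scheme.{u}} {f : X ⟶ S} {g : S' ⟶ S} {g' : X' ⟶ X} {f' : X' ⟶ S'}

/-- Vanishing of higher direct images above degree `k` is stable under arbitrary base change. -/
theorem isZero_RpushAb_bc (sq : IsPullback g' f' f g) [QuasiCompact f] [IsSeparated f] (M : X.Modules)
    (hM : Coh.IsQCoh M) (hfl : FlatMod.IsFlatOver f M) (k : ℕ)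
    (hvan : ∀ p, k < p → IsZero ((Coh.RpushAb f p).obj (Coh.toAb M))) (p : ℕ) (hp : k < p) :
    IsZero ((Coh.RpushAb f' p).obj (Coh.toAb ((Scheme.Modules.pullback g').obj M))) := by
  have j1 : QuasiCompact f' := MorphismProperty.of_isPullback sq inferInstance
  have j2 : IsSeparated f' := MorphismProperty.of_isPullback sq inferInstance
  refine isZero_RpushAb_of_cover f' _ (VarietyB.PullSec.isQCoh_pullback g' M hM) p fun x' => ?_
  obtain ⟨W, hW, hxW, -⟩ := exists_isAffineOpen_mem_and_subset (x := g x') (U := ⊤) trivial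
  obtain ⟨W', hW', hxW', hle⟩ := exists_isAffineOpen_mem_and_subset (x := x') (U := g ⁻¹ᵁ W) hxW
  refine ⟨W', hxW', hW', ?_⟩
  have a1 : IsAffine W := hW
  have a2 : IsAffine W' := hW'
  have hV : IsPullback (f ⁻¹ᵁ W).ι (f ∣_ W) f W.ι := (isPullback_morphismRestrict f W).flip
  have hV' : IsPullback (f' ⁻¹ᵁ W').ι (f' ∣_ W') f' W'.ι := (isPullback_morphismRestrict f' W').flip
  let g₀ : (W' : Scheme) ⟶ W := g.resLE W W' hle
  have hg₀ : g₀ ≫ W.ι = W'.ι ≫ g := Scheme.Hom.resLE_comp_ι _ _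
  let gV : (f' ⁻¹ᵁ W' : Scheme) ⟶ (f ⁻¹ᵁ W : Scheme) :=
    hV.lift ((f' ⁻¹ᵁ W').ι ≫ g') ((f' ∣_ W') ≫ g₀) (by
      rw [Category.assoc, Category.assoc, hg₀, sq.w, morphismRestrict_ι_assoc])
  have hgV : gV ≫ (f ⁻¹ᵁ W).ι = (f' ⁻¹ᵁ W').ι ≫ g' := hV.lift_fst _ _ _
  have hgV' : gV ≫ (f ∣_ W) = (f' ∣_ W') ≫ g₀ := hV.lift_snd _ _ _
  have sq₀ : IsPullback gV (f' ∣_ W') (f ∣_ W) g₀ := by
    refine IsPullback.of_right ?_ hgV' hV
    rw [hgV, hg₀]
    exact hV'.paste_horiz sq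
  have i1 : QuasiCompact (f ∣_ W) := MorphismProperty.of_isPullback hV inferInstance
  have i2 : IsSeparated (f ∣_ W) := MorphismProperty.of_isPullback hV inferInstance
  have h1 : Subsingleton (Coh.HH (f' ⁻¹ᵁ W').toScheme ((Scheme.Modules.pullback gV).obj
      ((Scheme.Modules.pullback (f ⁻¹ᵁ W).ι).obj M)) p) := by
    refine VanShift.vanish_bc sq₀ _ (VarietyB.PullSec.isQCoh_pullback _ _ hM)
      (fun x => S1391.result f (f ∣_ W) (f ⁻¹ᵁ W).ι W.ι hV M hM x (hfl _)) k (fun q hq => ?_) p hp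
    exact VanShift.subsingleton_HH_of_iso
      ((Scheme.Modules.restrictFunctorIsoPullback (f ⁻¹ᵁ W).ι).app M) q
      (subsingleton_HH_of_isZero f M hM q (hvan q hq) W hW)
  let e : ((Scheme.Modules.pullback g').obj M).restrict (f' ⁻¹ᵁ W').ι ≅
      (Scheme.Modules.pullback gV).obj ((Scheme.Modules.pullback (f ⁻¹ᵁ W).ι).obj M) :=
    (Scheme.Modules.restrictFunctorIsoPullback (f' ⁻¹ᵁ W').ι).app _ ≪≫
      (Scheme.Modules.pullbackComp (f' ⁻¹ᵁ W').ι g').app M ≪≫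
      (Scheme.Modules.pullbackCongr hgV.symm).app M ≪≫
      ((Scheme.Modules.pullbackComp gV (f ⁻¹ᵁ W).ι).app M).symm
  exact VanShift.subsingleton_HH_of_iso e.symm p h1

end Groth.Agent.Krr.H469.VanBC
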