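import Groth.Agent.Krr.H469.BCAcyc
import Groth.Agent.Krr.H469.BCCan
import Groth.Agent.Krr.H469.VanBC
import Groth.Agent.Krr.H469.TwPull
import Groth.Agent.Krr.H455.RelCast
import Groth.Agent.Sga67.PushFlat
import Groth.Agent.Dix.ProjProper

/-!
# Base change for regular bundles on `P^n_Y`

* `isRegSheaf_pullback`: the pull-back of a regular bundle along `P^n_{Y₁} ⟶ P^n_Y` is regular
  (no Noetherian hypothesis).
* `isIso_bcMap`: the direct image of a regular bundle commutes with any base change.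
-/

set_option autoImplicit false

universe u

open CategoryTheory CategoryTheory.Limits AlgebraicGeometry

namespace Groth.Agent.Krr.H469.RegBC

variable (n : ℕ) (Y : Scheme.{u})

instance isProper_pr : IsProper (KRR.pr n Y) := Dix.ProjProper.isProper_toBase n Y

instance flat_pr : Flat (KRR.pr n Y) := by
  have h1 : IsPullback (pullback.fst (CohB1.ProjSpace.toSpec n (ULift.{u} ℤ)) (specULiftZIsTerminal.from Y))
      (KRR.pr n Y) (CohB1.ProjSpace.toSpec n (ULift.{u} ℤ)) (specULiftZIsTerminal.from Y) :=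
    IsPullback.of_hasPullback _ _
  exact MorphismProperty.of_isPullback h1 (Sga67.PushFlat.flat_toSpec n (ULift.{u} ℤ))

variable {n Y}

theorem isFlatOver_of_isFinLocFree {F : (KRR.PY n Y).Modules} (hF : FlatMod.IsFinLocFree F) :
    FlatMod.IsFlatOver (KRR.pr n Y) F :=
  PerfC.RelFlat.isFlatOver_of_isFlat _ (Dcoh.Spread.isFlat_of_isFinLocFree hF)

/-- `R^j p_* (F(-i)) = 0` for `j ≥ i ≥ 1`, `F` regular. -/
theorem van_neg_twist {F : (KRR.PY n Y).Modules} (hreg : KRR.IsRegSheaf n Y F) (i j : ℕ) (hi : 1 ≤ i)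
    (hij : i ≤ j) : IsZero ((Coh.RpushAb (KRR.pr n Y) j).obj (Coh.toAb (KRR.twF n Y (-(i : ℤ)) F))) := by
  have h : H455.RelCast.Reg (KRR.pr n Y) F := hreg
  exact H455.RelCast.van_of_reg h (j - i) j (by omega) (-(i : ℤ)) (by omega)

variable {Y₁ : Scheme.{u}} (φ : Y₁ ⟶ Y)

/-- Pull-backs of regular bundles are regular. -/
theorem isRegSheaf_pullback {F : (KRR.PY n Y).Modules} (hF : FlatMod.IsFinLocFree F)
    (hreg : KRR.IsRegSheaf n Y F) :
    KRR.IsRegSheaf n Y₁ ((Scheme.Modules.pullback (KRR.projSpaceMap n φ)).obj F) := by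
  intro i hi
  have hT : FlatMod.IsFinLocFree (KRR.twF n Y (-(i : ℤ)) F) :=
    Sga67.TwistOver.isFinLocFree_tw n Y (-(i : ℤ)) F hF
  obtain ⟨k, rfl⟩ : ∃ k, i = k + 1 := ⟨i - 1, by omega⟩
  have h := VanBC.isZero_RpushAb_bc (TwPull.isPullback_projSpaceMap n φ)
    (KRR.twF n Y (-((k + 1 : ℕ) : ℤ)) F) (PerfA.QCohEpi.isQCoh_of_isFinLocFree hT)
    (isFlatOver_of_isFinLocFree hT) k (fun p hp => van_neg_twist hreg (k + 1) p hi (by omega)) (k + 1)
    (by omega)
  exact h.of_iso (((Coh.RpushAb (KRR.pr n Y₁) (k + 1)).mapIso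
    ((SheafOfModules.toSheaf _).mapIso (TwPull.pullTwF n φ (-((k + 1 : ℕ) : ℤ)) F))).symm)

/-- The direct image of a regular bundle commutes with any base change. -/
theorem isIso_bcMap (hsq : KRR.projSpaceMap n φ ≫ KRR.pr n Y = KRR.pr n Y₁ ≫ φ)
    {F : (KRR.PY n Y).Modules} (hF : FlatMod.IsFinLocFree F)
    (hreg : KRR.IsRegSheaf n Y F) : IsIso (KRR.bcMap n φ hsq F) := by
  have hM : Coh.IsQCoh F := PerfA.QCohEpi.isQCoh_of_isFinLocFree hF
  refine BCCan.isIso_of_bc hsq F (BCAcyc.bc_acyclic (TwPull.isPullback_projSpaceMap n φ) F hM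
    (isFlatOver_of_isFinLocFree hF) fun W hW p hp => ?_) _ ?_
  · have h : H455.RelCast.Reg (KRR.pr n Y) F := hreg
    exact VanBC.subsingleton_HH_of_isZero (KRR.pr n Y) F hM p
      (H455.RelCast.van_self_of_reg h p hp) W hW
  · unfold KRR.bcMap
    exact Equiv.symm_apply_apply _ _

end Groth.Agent.Krr.H469.RegBC
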